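import Groth.Agent.Lib.FibPow.Basic
import Mathlib.Algebra.Category.ModuleCat.Basic
import Mathlib.Algebra.Category.ModuleCat.EpiMono
import Mathlib.LinearAlgebra.Pi

/-!
# Injective presheaves of modules have vanishing Čech cohomology

Every presheaf of modules embeds into its coinduced (Godement) presheaf, whose cocycles are killed by
the contracting homotopy of the fibre powers.
-/

set_option autoImplicit false
set_option backward.isDefEq.respectTransparency.types false

universe w v u

open CategoryTheory Limits Opposite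

namespace GrothLib.ModH19

variable {Λ : Type*} [CommRing Λ] {C : Type u} [Category.{v} C]

/-- The coinduced presheaf of a family of modules. -/
def gd (A : C → ModuleCat.{max u v w} Λ) : Cᵒᵖ ⥤ ModuleCat.{max u v w} Λ where
  obj W := ModuleCat.of Λ (∀ V : C, (V ⟶ W.unop) → A V)
  map {W W'} f := ModuleCat.ofHom
    { toFun := fun s (V : C) (g : V ⟶ W'.unop) => s V (g ≫ f.unop)
      map_add' := fun _ _ => rfl
      map_smul' := fun _ _ => rfl }
  map_id W := by ext s V g; exact congrArg (s V) (Category.comp_id g)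
  map_comp f f' := by ext s V g; exact congrArg (s V) (Category.assoc g _ _).symm

/-- The map to the coinduced presheaf. -/
def toGd (G : Cᵒᵖ ⥤ ModuleCat.{max u v w} Λ) : G ⟶ gd.{w} (fun V : C => G.obj (op V)) where
  app W := ModuleCat.ofHom
    { toFun := fun s (V : C) (g : V ⟶ W.unop) => G.map g.op s
      map_add' := fun _ _ => funext fun V => funext fun g => map_add _ _ _
      map_smul' := fun _ _ => funext fun V => funext fun g => map_smul _ _ _ }
  naturality W W' f := by
    ext s
    funext V g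
    show G.map g.op (G.map f s) = G.map (g ≫ f.unop).op s
    rw [op_comp, Functor.map_comp_apply]
    rfl

instance (G : Cᵒᵖ ⥤ ModuleCat.{max u v w} Λ) : Mono (toGd.{w} G) := by
  haveI : ∀ W, Mono ((toGd.{w} G).app W) := fun W => by
    rw [ModuleCat.mono_iff_injective]
    intro s t h
    have e := congrFun (congrFun h W.unop) (𝟙 _)
    change G.map (𝟙 W.unop).op s = G.map (𝟙 W.unop).op t at e
    simpa using e
  exact NatTrans.mono_of_mono_app _

variable {T Y : C} {f : T ⟶ Y} (E : FibPow f)

theorem vanishes_gd (A : C → ModuleCat.{max u v w} Λ) :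
    E.Vanishes (gd.{w} A ⋙ forget₂ (ModuleCat.{max u v w} Λ) AddCommGrpCat.{max u v w}) := by
  intro n c hc
  let b : ∀ V : C, (V ⟶ E.P n) → A V := fun V a =>
    (c : ∀ V : C, (V ⟶ E.P (n + 1)) → A V) V (E.cons n a)
  refine ⟨b, ?_⟩
  have hd : ∀ (m : ℕ) (x : (gd.{w} A ⋙ forget₂ _ AddCommGrpCat).obj (op (E.P m))) (V : C) (a : V ⟶ E.P (m + 1)),
      (E.d _ m x : ∀ V : C, (V ⟶ E.P (m + 1)) → A V) V a =
        ∑ k : Fin (m + 2), (-1 : ℤ) ^ (k : ℕ) • (x : ∀ V : C, (V ⟶ E.P m) → A V) V (a ≫ E.δ m k) := by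
    intro m x V a
    let F := gd.{w} A ⋙ forget₂ (ModuleCat.{max u v w} Λ) AddCommGrpCat.{max u v w}
    let ev : F.obj (op (E.P (m + 1))) →+ A V :=
      AddMonoidHom.mk' (fun s => (s : ∀ V : C, (V ⟶ E.P (m + 1)) → A V) V a) (fun _ _ => rfl)
    show ev (E.d F m x) = _
    rw [FibPow.d_apply, map_sum]
    refine Finset.sum_congr rfl fun k _ => ?_
    rw [map_zsmul]
    rfl
  funext V a
  rw [hd]
  have h0 := congrFun (congrFun hc V) (E.cons (n + 1) a)
  rw [hd, Fin.sum_univ_succ] at h0
  simp only [FibPow.cons_δ_zero, FibPow.cons_δ_succ, Fin.val_zero, pow_zero, one_smul, Fin.val_succ, pow_succ,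
    mul_neg, mul_one, neg_smul, Finset.sum_neg_distrib] at h0
  exact (eq_of_sub_eq_zero ((sub_eq_add_neg _ _).trans h0)).symm

/-- Injective presheaves of modules have no Čech cohomology in positive degrees. -/
theorem vanishes_of_injective (G : Cᵒᵖ ⥤ ModuleCat.{max u v w} Λ) [Injective G] :
    E.Vanishes (G ⋙ forget₂ (ModuleCat.{max u v w} Λ) AddCommGrpCat.{max u v w}) := by
  intro n c hc
  let F := forget₂ (ModuleCat.{max u v w} Λ) AddCommGrpCat.{max u v w}
  let r : gd.{w} (fun V : C => G.obj (op V)) ⟶ G := Injective.factorThru (𝟙 G) (toGd.{w} G)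
  let φ := Functor.whiskerRight (toGd.{w} G) F
  let ψ := Functor.whiskerRight r F
  have hφψ : φ ≫ ψ = 𝟙 _ := by
    rw [← Functor.whiskerRight_comp, Injective.comp_factorThru]; exact Functor.whiskerRight_id' F
  obtain ⟨b, hb⟩ := vanishes_gd E (fun V : C => G.obj (op V)) n (φ.app (op (E.P (n + 1))) c)
    (by rw [← FibPow.d_naturality, hc, map_zero])
  refine ⟨ψ.app (op (E.P n)) b, ?_⟩
  rw [← FibPow.d_naturality, hb]
  exact ConcreteCategory.congr_hom (congrArg (fun z => NatTrans.app z (op (E.P (n + 1)))) hφψ) c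

end GrothLib.ModH19
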