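import Groth.Agent.Lib.EtQc13.Affine
import Groth.Agent.Lib.ModH19.Vanish
import Groth.Prelude.Def_SixF2

/-!
# Čech acyclicity for all surjective étale covers, and injective sheaves of modules
-/

set_option autoImplicit false
set_option linter.style.haveILetI false
set_option backward.isDefEq.respectTransparency false
set_option backward.isDefEq.respectTransparency.types false

universe u

open CategoryTheory CategoryTheory.Limits CategoryTheory.Abelian AlgebraicGeometry Opposite
open GrothLib.EtSite GrothLib.EtColim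

noncomputable section

namespace GrothLib.ModH19

variable {X : Scheme.{u}}

/-- Any locally liftable section lifts on a single cover. -/
theorem exists_cover_lift {Y : X.Etale} {F G : EtCoh.Ab X} (φ : F ⟶ G)
    (s : G.obj.obj (op Y)) (hs : Presheaf.imageSieve φ.hom s ∈ X.smallEtaleTopology Y) :
    ∃ (T : X.Etale) (f : T ⟶ Y),
      Sieve.generate (Presieve.singleton f) ∈ X.smallEtaleTopology Y ∧
      ∃ r, φ.hom.app (op T) r = G.obj.map f.op s := by
  classical
  choose V g v hg hv using (mem_topology_iff _).1 hs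
  let κ := (Y.left : Type u)
  let Z : κ → Scheme.{u} := fun k => (V k).left
  let b : ∀ k, Z k ⟶ Y.left := fun k => (g k).left
  haveI : ∀ k, Etale (b k) := fun k => GrothLib.ConnFibres.etale_left (g k)
  haveI : Etale (Sigma.desc b) := IsZariskiLocalAtSource.sigmaDesc fun k => inferInstance
  haveI : Etale Y.hom := Y.prop
  let T : X.Etale := MorphismProperty.Over.mk _ (Sigma.desc b ≫ Y.hom) (inferInstanceAs (Etale (Sigma.desc b ≫ Y.hom)))
  let f : T ⟶ Y := MorphismProperty.Over.homMk (Sigma.desc b) rfl trivial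
  refine ⟨T, f, (mem_topology_iff _).2 fun y => ?_, ?_⟩
  · refine ⟨T, f, Sigma.ι Z y (v y), ⟨T, 𝟙 T, f, ⟨⟩, Category.id_comp f⟩, ?_⟩
    show Sigma.desc b (Sigma.ι Z y (v y)) = y
    rw [← Scheme.Hom.comp_apply, Sigma.ι_desc]
    exact hv y
  let j : ∀ k, V k ⟶ T := fun k => MorphismProperty.Over.homMk (Sigma.ι Z k) (by
    show Sigma.ι Z k ≫ Sigma.desc b ≫ Y.hom = (V k).hom
    rw [Sigma.ι_desc_assoc]
    exact MorphismProperty.Over.w (g k)) trivial
  have hjf : ∀ k, j k ≫ f = g k := fun k => MorphismProperty.Over.Hom.ext (Sigma.ι_desc _ _)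
  choose r₁ hr₁ using fun k => hg k
  let FT := (sheafCompose X.smallEtaleTopology (forget AddCommGrpCat.{u + 1})).obj F
  let GT := (sheafCompose X.smallEtaleTopology (forget AddCommGrpCat.{u + 1})).obj G
  have hcov : Sieve.generate (Presieve.ofArrows V j) ∈ X.smallEtaleTopology T :=
    (mem_topology_iff _).2 fun z => by
      obtain ⟨k, w, hw⟩ := (sigmaOpenCover Z).exists_eq z
      exact ⟨V k, j k, w, ⟨_, 𝟙 _, j k, Presieve.ofArrows.mk k, Category.id_comp _⟩, hw⟩
  have hsh : ∀ H : Sheaf X.smallEtaleTopology (Type (u + 1)), (Presieve.ofArrows V j).IsSheafFor H.obj :=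
    fun H => (Presieve.isSheafFor_iff_generate _).2 ((isSheaf_iff_isSheaf_of_type _ _).1 H.property _ hcov)
  obtain ⟨r₀, hr₀, -⟩ := (Presieve.isSheafFor_arrows_iff _ _).1 (hsh FT)
    r₁ (fun i i' Z' gi gj hij => by
      by_cases h : i = i'
      · subst h
        haveI : IsOpenImmersion (j i).left := inferInstanceAs (IsOpenImmersion (Sigma.ι Z i))
        obtain rfl : gi = gj := MorphismProperty.Over.Hom.ext
          ((cancel_mono (j i).left).1 (congrArg (fun m : Z' ⟶ T => m.left) hij))
        rfl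
      · haveI : IsEmpty Z'.left := ⟨fun z =>
          (disjoint_opensRange_sigmaι Z i i' h).le_bot
            ⟨⟨gi.left z, rfl⟩, ⟨gj.left z, (congr($(hij).left.base z)).symm⟩⟩⟩
        exact (((isSheaf_iff_isSheaf_of_type _ _).1 FT.property ⊥
          ((mem_topology_iff _).2 fun u => isEmptyElim u)).isSeparatedFor).ext fun _ _ h => h.elim)
  change F.obj.obj (op T) at r₀
  refine ⟨r₀, (hsh GT).isSeparatedFor.ext ?_⟩
  rintro _ _ ⟨k⟩
  show G.obj.map (j k).op (φ.hom.app (op T) r₀) = G.obj.map (j k).op (G.obj.map f.op s)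
  rw [← Functor.map_comp_apply, ← op_comp, hjf, ← hr₁ k]
  refine (ConcreteCategory.congr_hom (φ.hom.naturality (j k).op) r₀).symm.trans ?_
  exact congrArg (φ.hom.app (op (V k))) (hr₀ k)

/-- All objects with all single covers. -/
def allClass (X : Scheme.{u}) : FibPow.CoverClass.{u + 1} X.smallEtaleTopology where
  B _ := True
  Cov _ _ _ := True
  mem _ _ _ _ _ _ := trivial
  refine' Y _ F G φ s hs := by
    obtain ⟨T, f, hcov, hr⟩ := exists_cover_lift φ s hs
    exact ⟨T, f, FibPow.ofPullbacks f, trivial, hcov, hr⟩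

/-- Acyclic sheaves have no higher cohomology. -/
theorem ext_eq_zero (X : Scheme.{u}) :
    ∀ (q : ℕ) (F : EtCoh.Ab X), (allClass X).Acyclic F → ∀ x : EtCoh.H X F (q + 1), x = 0 := by
  intro q
  induction q with
  | zero =>
    intro F hF x
    obtain ⟨⟨I, m, hm⟩⟩ : Nonempty (Σ' (I : EtCoh.Ab X) (m : F ⟶ I), Mono m ∧ Injective I) :=
      ⟨⟨_, Injective.ι F, inferInstance, inferInstance⟩⟩
    haveI := hm.1
    haveI := hm.2
    let S : ShortComplex (EtCoh.Ab X) := ShortComplex.mk m (cokernel.π m) (cokernel.condition m)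
    have hS : S.ShortExact := { exact := ShortComplex.exact_of_g_is_cokernel S (cokernelIsCokernel m) }
    obtain ⟨x₃, hx⟩ := Ext.covariant_sequence_exact₁ _ hS x (Ext.eq_zero_of_injective _) rfl
    obtain ⟨φ, rfl⟩ := Ext.addEquiv₀.symm.surjective x₃
    obtain ⟨r, hr⟩ := (allClass X).surjective hS hF (Y := EtCoh.top X) trivial (evOne _ φ)
    obtain ⟨ψ, hψ⟩ := (bijective_evOne S.X₂).2 r
    have hcomp : ψ ≫ S.g = φ := (bijective_evOne S.X₃).1 (by rw [EtQc13.evOne_comp, hψ, hr])
    rw [← hx, ← hcomp, Ext.addEquiv₀_symm_apply, ← Ext.mk₀_comp_mk₀, Ext.comp_assoc_of_second_deg_zero,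
      ShortComplex.ShortExact.comp_extClass, Ext.comp_zero]
  | succ n ih =>
    intro F hF x
    obtain ⟨⟨I, m, hm⟩⟩ : Nonempty (Σ' (I : EtCoh.Ab X) (m : F ⟶ I), Mono m ∧ Injective I) :=
      ⟨⟨_, Injective.ι F, inferInstance, inferInstance⟩⟩
    haveI := hm.1
    haveI := hm.2
    let S : ShortComplex (EtCoh.Ab X) := ShortComplex.mk m (cokernel.π m) (cokernel.condition m)
    have hS : S.ShortExact := { exact := ShortComplex.exact_of_g_is_cokernel S (cokernelIsCokernel m) }
    obtain ⟨x₃, hx⟩ := Ext.covariant_sequence_exact₁ _ hS x (Ext.eq_zero_of_injective _) rfl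
    have h₃ : (allClass X).Acyclic S.X₃ :=
      (allClass X).acyclic_X₃ hS hF ((allClass X).acyclic_of_injective I)
    rw [← hx, ih S.X₃ h₃ x₃, Ext.zero_comp]

variable {Λ : Type (u + 1)} [CommRing Λ]

theorem acyclic_forget_injective (I : EtModW.Mod Λ X) [Injective I] :
    (allClass X).Acyclic ((EtModD.forgetToAb Λ X).obj I) := fun T Y f E _ => by
  haveI : Injective ((sheafToPresheaf X.smallEtaleTopology (ModuleCat.{u + 1} Λ)).obj I) :=
    Injective.injective_of_adjoint (sheafificationAdjunction X.smallEtaleTopology (ModuleCat.{u + 1} Λ)) I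
  exact vanishes_of_injective.{u + 1} E ((sheafToPresheaf X.smallEtaleTopology (ModuleCat.{u + 1} Λ)).obj I)

/-- Injective sheaves of modules have acyclic underlying abelian sheaves. -/
theorem forget_injective_H_eq_zero (I : EtModW.Mod Λ X) [Injective I] (q : ℕ)
    (x : EtCoh.H X ((EtModD.forgetToAb Λ X).obj I) (q + 1)) : x = 0 :=
  ext_eq_zero X q _ (acyclic_forget_injective I) x

end GrothLib.ModH19
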