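import Mathlib.Algebra.Homology.DerivedCategory.Ext.ExactSequences
import Mathlib.Algebra.Homology.DerivedCategory.Ext.EnoughInjectives
import Mathlib.Algebra.Homology.DerivedCategory.Ext.Map

/-! # Comparison of Ext groups along an exact functor by dimension shifting -/

set_option autoImplicit false
set_option linter.style.haveILetI false

universe w w' v v' u u'

open CategoryTheory CategoryTheory.Limits CategoryTheory.Abelian

namespace GrothLib.ModH19

variable {A : Type u} [Category.{v} A] [Abelian A] [HasExt.{w} A] [EnoughInjectives A]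
  {B : Type u'} [Category.{v'} B] [Abelian B] [HasExt.{w'} B]
  (U : A ⥤ B) [U.Additive] [PreservesFiniteLimits U] [PreservesFiniteColimits U]
  {P : A} {Q : B} (a : Q ⟶ U.obj P)

/-- Apply `U` and precompose with `a`. -/
noncomputable def comparison (F : A) (n : ℕ) (x : Ext.{w} P F n) : Ext.{w'} Q (U.obj F) n :=
  (Ext.mk₀ a).comp (x.mapExactFunctor U) (zero_add n)

theorem bijective_comparison (h0 : ∀ F : A, Function.Bijective (fun φ : P ⟶ F => a ≫ U.map φ))
    (hI : ∀ (I : A), Injective I → ∀ (k : ℕ) (x : Ext.{w'} Q (U.obj I) (k + 1)), x = 0) :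
    ∀ (n : ℕ) (F : A), Function.Bijective (comparison U a F n) := by
  intro n
  induction n with
  | zero =>
    intro F
    have e : ∀ φ : P ⟶ F, comparison U a F 0 (Ext.mk₀ φ) = Ext.mk₀ (a ≫ U.map φ) := fun φ => by
      simp only [comparison]
      rw [Ext.mapExactFunctor_mk₀, Ext.mk₀_comp_mk₀]
    refine (Function.Bijective.of_comp_iff _ (Ext.mk₀_bijective P F)).1 ?_
    rw [show comparison U a F 0 ∘ Ext.mk₀ = Ext.mk₀ ∘ (fun φ => a ≫ U.map φ) from funext e]
    exact (Ext.mk₀_bijective _ _).comp (h0 F)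
  | succ k ih =>
    intro F
    obtain ⟨⟨I, m, hm⟩⟩ : Nonempty (Σ' (I : A) (m : F ⟶ I), Mono m ∧ Injective I) :=
      ⟨⟨_, Injective.ι F, inferInstance, inferInstance⟩⟩
    haveI := hm.1
    haveI := hm.2
    let S : ShortComplex A := ShortComplex.mk m (cokernel.π m) (cokernel.condition m)
    have hS : S.ShortExact := { exact := ShortComplex.exact_of_g_is_cokernel S (cokernelIsCokernel m) }
    have hSU := hS.map_of_exact U
    have hcomm : ∀ x : Ext.{w} P S.X₃ k, comparison U a S.X₁ (k + 1) (x.comp hS.extClass rfl) =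
        (comparison U a S.X₃ k x).comp hSU.extClass rfl := fun x => by
      simp only [comparison]
      rw [Ext.mapExactFunctor_comp, Ext.mapExactFunctor_extClass]
      exact (Ext.comp_assoc _ _ _ (zero_add k) rfl (by omega)).symm
    let c : Ext.{w} P S.X₁ (k + 1) →+ Ext.{w'} Q (U.obj S.X₁) (k + 1) :=
      AddMonoidHom.mk' (comparison U a S.X₁ (k + 1)) (fun x x' => by
        simp only [comparison, Ext.mapExactFunctor_add, Ext.comp_add])
    refine ⟨(injective_iff_map_eq_zero c).2 fun x hx => ?_, fun y => ?_⟩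
    · change comparison U a S.X₁ (k + 1) x = 0 at hx
      obtain ⟨x₃, rfl⟩ := Ext.covariant_sequence_exact₁ P hS x (Ext.eq_zero_of_injective _) rfl
      have h1 : (comparison U a S.X₃ k x₃).comp hSU.extClass rfl = 0 := (hcomm x₃).symm.trans hx
      obtain ⟨y₂, hy₂⟩ := Ext.covariant_sequence_exact₃ Q hSU _ rfl h1
      obtain ⟨x₂, hx₂⟩ := (ih S.X₂).2 y₂
      have h2 : comparison U a S.X₃ k (x₂.comp (Ext.mk₀ S.g) (add_zero k)) = comparison U a S.X₃ k x₃ := by
        rw [← hy₂, ← hx₂]
        simp only [comparison]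
        rw [Ext.mapExactFunctor_comp, Ext.mapExactFunctor_mk₀]
        exact (Ext.comp_assoc _ _ _ (zero_add k) (add_zero k) (by omega)).symm
      rw [← (ih S.X₃).1 h2, Ext.comp_assoc_of_second_deg_zero,
        ShortComplex.ShortExact.comp_extClass, Ext.comp_zero]
    · obtain ⟨y₃, hy₃⟩ := Ext.covariant_sequence_exact₁ Q hSU y (hI I inferInstance k _) rfl
      obtain ⟨x₃, hx₃⟩ := (ih S.X₃).2 y₃
      exact ⟨x₃.comp hS.extClass rfl, by rw [hcomm, hx₃]; exact hy₃⟩

end GrothLib.ModH19
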