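import Groth.Agent.Lib.ModH19.Acyclic

/-! # Degree zero and connecting maps for the comparison of module and abelian sheaf cohomology -/

set_option autoImplicit false
set_option linter.style.haveILetI false

universe u

open CategoryTheory CategoryTheory.Limits AlgebraicGeometry Opposite EtSix

noncomputable section

namespace GrothLib.ModH19

variable {Λ : Type (u + 1)} [CommRing Λ] {X : Scheme.{u}}

theorem evOne_intToConstΛ : GrothLib.EtColim.evOne ((EtModD.forgetToAb Λ X).obj (constΛ Λ X)) (intToConstΛ Λ X) =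
    ((constModAdj Λ X).unit.app (ModuleCat.of Λ Λ)).hom (1 : Λ) := by
  have e1 : ((EtCore.constAdj X).homEquiv _ _) (intToConstΛ Λ X) = oneSection Λ X :=
    Equiv.apply_symm_apply _ _
  rw [Adjunction.homEquiv_unit] at e1
  refine (ConcreteCategory.congr_hom e1 (⟨1⟩ : ULift.{u + 1} ℤ)).trans ?_
  exact one_zsmul _

theorem bijective_secOne (G : EtModW.Mod Λ X) :
    Function.Bijective (fun φ : constΛ Λ X ⟶ G => ((constModAdj Λ X).homEquiv (ModuleCat.of Λ Λ) G φ).hom (1 : Λ)) := by
  let e := (constModAdj Λ X).homEquiv (ModuleCat.of Λ Λ) G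
  refine ⟨fun a b h => e.injective (ModuleCat.hom_ext (LinearMap.ext_ring h)), fun s => ?_⟩
  refine ⟨e.symm (ModuleCat.ofHom (LinearMap.toSpanSingleton Λ _ s)), ?_⟩
  show (e (e.symm _)).hom (1 : Λ) = s
  rw [Equiv.apply_symm_apply]
  exact one_smul Λ s

theorem evOne_comp_forget (G : EtModW.Mod Λ X) (φ : constΛ Λ X ⟶ G) :
    GrothLib.EtColim.evOne ((EtModD.forgetToAb Λ X).obj G) (intToConstΛ Λ X ≫ (EtModD.forgetToAb Λ X).map φ) =
      ((constModAdj Λ X).homEquiv (ModuleCat.of Λ Λ) G φ).hom (1 : Λ) := by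
  rw [GrothLib.EtQc13.evOne_comp, evOne_intToConstΛ, Adjunction.homEquiv_unit]
  rfl

theorem bijective_comp_forget (G : EtModW.Mod Λ X) :
    Function.Bijective (fun φ : constΛ Λ X ⟶ G => intToConstΛ Λ X ≫ (EtModD.forgetToAb Λ X).map φ) := by
  refine (Function.Bijective.of_comp_iff' (GrothLib.EtColim.bijective_evOne _) _).1 ?_
  have e : GrothLib.EtColim.evOne ((EtModD.forgetToAb Λ X).obj G) ∘
      (fun φ : constΛ Λ X ⟶ G => intToConstΛ Λ X ≫ (EtModD.forgetToAb Λ X).map φ) = _ :=
    funext (evOne_comp_forget G)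
  rw [e]
  exact bijective_secOne G

end GrothLib.ModH19
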